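/-
The presented group Suz on the roots of a chain of orbits of its action on 1782 points.

* `el`, `el_append`, `el_eq` (words with equal images of the roots), `el_ne`, `card_g0`
* `SylowData`: polycyclic data given by words, with checks by images
-/
import Cfsg.Agent.S1694
import Cfsg.Agent.Lib.ONReal.Faith
import Cfsg.Agent.Lib.MultiplierSuz.Tables
import Cfsg.Agent.Lib.Multiplier.PrimeTailsPair

set_option autoImplicit false
set_option maxRecDepth 100000

namespace Cfsg.Agent.MultiplierSuz

open Cfsg.Agent.CosetEnum Cfsg.Agent.CosetEnum.Data Cfsg.Agent.CosetEnum.Setup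

/-- The Suzuki group. -/
abbrev G0 : Type := suzSetup.G

/-- The value of a word; the first letter is applied first. -/
noncomputable def el (w : List ℕ) : G0 := ev suzSetup.el w

theorem el_nil : el [] = 1 := rfl

theorem el_append (v w : List ℕ) : el (v ++ w) = el w * el v := ev_append _ v w

theorem el_replicate (n : ℕ) (w : List ℕ) : el (List.replicate n w).flatten = el w ^ n := by
  induction n with
  | zero => exact (pow_zero _).symm
  | succ n ih => rw [List.replicate_succ, List.flatten_cons, el_append, ih, pow_succ]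

theorem card_g0 : Nat.card G0 = 448345497600 := S1694.main.2

instance finite_g0 : Finite G0 := Nat.finite_of_card_ne_zero (by rw [card_g0]; norm_num)

/-- Letters are in range. -/
def okW (w : List ℕ) : Bool := w.all fun a => Nat.blt a 7

/-- The image of a point under a word. -/
noncomputable def img : List ℕ → ℕ → ℕ
  | [], i => i
  | a :: v, i => force (lane 12 (tbl a) i) fun j => img v j

/-- The roots of the chain. -/
def roots : List ℕ := [0, 1, 2, 8, 14, 4]

/-- Two words agree on the roots. -/
noncomputable def same (v w : List ℕ) : Bool :=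
  okW v && (okW w && roots.all fun b => Nat.beq (img v b) (img w b))

theorem roots_eq : suz1782_chain.map OrbitData.root = roots := by decide +kernel

theorem data_facts : suz1782.k = 7 ∧ suz1782.B = 12 ∧ suz1782.lg = 11 ∧ suz1782.n = 1782 ∧
    roots.all (fun b => Nat.blt b suz1782.n) = true := by decide +kernel

theorem lane_tbl {a i : ℕ} (ha : a < 7) (hi : i < suz1782.n) : lane 12 (tbl a) i = suz1782.act a i := by
  have h := check_tbl
  simp only [List.all_eq_true, List.mem_range] at h
  have h1 := h a ha
  rw [force_eq, beq_iff] at h1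
  obtain ⟨-, hB, hlg, hn, -⟩ := data_facts
  rw [← h1]
  show _ = lane suz1782.B (applyNet suz1782.B (suz1782.net a) (ramp suz1782.B suz1782.lg)) i
  rw [hB, hlg, lane_def, lane_def]
  refine Nat.eq_of_testBit_eq fun k => ?_
  rw [Nat.testBit_and, Nat.testBit_and, Nat.testBit_two_pow_sub_one]
  by_cases hk : k < 12
  · congr 1
    rw [Nat.testBit_shiftRight, Nat.testBit_shiftRight]
    show (Nat.land _ (Nat.shiftLeft 1 21384 - 1)).testBit _ = _
    rw [show Nat.shiftLeft 1 21384 = 2 ^ 21384 from Nat.one_shiftLeft _]
    show (_ &&& (2 ^ 21384 - 1)).testBit _ = _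
    rw [Nat.testBit_and, Nat.testBit_two_pow_sub_one, decide_eq_true (by rw [hn] at hi; omega), Bool.and_true]
  · simp [hk]

theorem okW_lt {w : List ℕ} (h : okW w = true) : ∀ a ∈ w, a < suz1782.k := by
  simp only [okW, List.all_eq_true, Nat.blt_eq] at h
  rw [data_facts.1]
  exact h

theorem okW_append {v w : List ℕ} : okW (v ++ w) = (okW v && okW w) := List.all_append

theorem img_eq (hp : suz1782.PermFacts) : ∀ (w : List ℕ), okW w = true → ∀ i < suz1782.n,
    img w i = suz1782.tw w i
  | [], _, _, _ => rfl
  | a :: w, h, i, hi => by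
    have h' : a < 7 ∧ okW w = true := by
      simpa [okW] using h
    show force (lane 12 (tbl a) i) (fun j => img w j) = suz1782.tw w (suz1782.act a i)
    rw [force_eq, lane_tbl h'.1 hi]
    exact img_eq hp w h'.2 _ (hp.act_lt_n a (by rw [data_facts.1]; exact h'.1) i hi)

/-- The permutations. -/
noncomputable def rep : G0 →* Equiv.Perm (Fin suz1782.n) :=
  hom Cfsg.Agent.S1680.table.gens Cfsg.Agent.S1680.table.letters Cfsg.Agent.S1680.table.perm
    Cfsg.Agent.S1680.table.rels

theorem rep_facts : Function.Injective rep ∧ Nat.card rep.range ≤ Setup.chainSize suz1782_chain := by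
  have T := Cfsg.Agent.S1680.table
  have hch := suz1782_chain_check
  simp only [Bool.and_eq_true] at hch
  obtain ⟨-, hinj⟩ := Setup.card_eq_of_bounds T.gens T.letters T.perm T.rels suz1782_chain hch.1
    (c := 448345497600) ⟨card_g0.le, by rw [card_g0]; norm_num⟩ (beq_iff.mp hch.2)
  refine ⟨hinj, ?_⟩
  rw [beq_iff.mp hch.2, ← card_g0]
  exact Nat.card_le_card_of_surjective _ rep.rangeRestrict_surjective

theorem rep_el : ∀ w : List ℕ, (∀ a ∈ w, a < suz1782.k) →
    rep (el w) = ev (Setup.perm suz1782 Cfsg.Agent.S1680.table.perm) w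
  | [], _ => map_one rep
  | a :: v, hw => by
    show rep (el v * suzSetup.el a) = _
    rw [map_mul, rep_el v fun b hb => hw b (List.mem_cons_of_mem _ hb), rep,
      Setup.hom_el _ _ _ _ (hw a List.mem_cons_self)]
    rfl

theorem el_apply {w : List ℕ} (hw : okW w = true) (i : Fin suz1782.n) : (rep (el w) i : ℕ) = img w i := by
  rw [rep_el w (okW_lt hw), Setup.ev_perm _ _ (okW_lt hw), img_eq Cfsg.Agent.S1680.table.perm w hw i i.2]

theorem eq_of_roots {x y : G0} (h : ∀ b ∈ roots, ∀ i : Fin suz1782.n, (i : ℕ) = b → rep x i = rep y i) :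
    x = y := by
  have hch := suz1782_chain_check
  simp only [Bool.and_eq_true] at hch
  have hpos : 0 < Setup.chainSize suz1782_chain := by rw [beq_iff.mp hch.2]; norm_num
  have h1 := ONReal.eq_one_of_fix_roots Cfsg.Agent.S1680.table.perm suz1782_chain [] hch.1
    (fun _ hb => absurd hb List.not_mem_nil) rep.range
    (fun g ⟨w, hw, hg⟩ _ => hg ▸ Setup.ev_perm_mem_range _ _ _ _ w hw)
    hpos rep_facts.2 (rep (x⁻¹ * y)) ⟨_, rfl⟩ fun O hO i hi => by
      rw [map_mul, map_inv, Equiv.Perm.mul_apply,
        ← h O.root (roots_eq ▸ List.mem_map_of_mem hO) i hi]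
      exact Equiv.symm_apply_apply _ i
  exact inv_mul_eq_one.1 (rep_facts.1 (h1.trans (map_one rep).symm))

theorem el_eq {v w : List ℕ} (h : same v w = true) : el v = el w := by
  simp only [same, Bool.and_eq_true, List.all_eq_true] at h
  obtain ⟨hv, hw, he⟩ := h
  refine eq_of_roots fun b hb i hi => Fin.ext ?_
  rw [el_apply hv, el_apply hw, hi]
  exact beq_iff.1 (he b hb)

/-! ### Polycyclic data given by words -/

open Cfsg.Agent.Multiplier

/-- The word of a product of generators. -/
def pw (pcW : List (List ℕ)) : List ℕ → List ℕ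
  | [] => []
  | i :: l => pw pcW l ++ pcW.getD i []

/-- The generators. -/
noncomputable def gen (pcW : List (List ℕ)) (i : ℕ) : G0 := el (pcW.getD i [])

theorem el_pw (pcW : List (List ℕ)) : ∀ l, el (pw pcW l) = PcCover.wp (gen pcW) l
  | [] => rfl
  | i :: l => by rw [pw, el_append, el_pw pcW l, PcCover.wp_cons]; rfl

/-- The rules of a certificate hold. -/
noncomputable def rulesOK (pcW : List (List ℕ)) (p n : ℕ) (R : List (List ℕ)) : Bool :=
  (List.range n).all fun a => (List.range (a + 1)).all fun b =>
    same (pw pcW (PrimeTails.lhs p a b)) (pw pcW (PrimeTails.rhs R a b))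

theorem rule_of_check {pcW : List (List ℕ)} {p n : ℕ} {R : List (List ℕ)} (h : rulesOK pcW p n R = true)
    (i j : ℕ) (hi : i < n) (hj : j ≤ i) :
    PcCover.wp (gen pcW) (PrimeTails.lhs p i j) = PcCover.wp (gen pcW) (PrimeTails.rhs R i j) := by
  simp only [rulesOK, List.all_eq_true, List.mem_range] at h
  rw [← el_pw, ← el_pw]
  exact el_eq (h i hi j (by omega))

/-- The transported relations hold. -/
noncomputable def fusOK (pcW : List (List ℕ))
    (F : List (List ℕ × List (List ℕ) × List (List ℕ) × List ℕ × List ℕ)) : Bool :=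
  F.all fun f => (List.range f.2.1.length).all fun j =>
    same (pw pcW (f.2.1.getD j []) ++ f.1) (f.1 ++ pw pcW (f.2.2.1.getD j []))

theorem fus_of_check {pcW : List (List ℕ)}
    {F : List (List ℕ × List (List ℕ) × List (List ℕ) × List ℕ × List ℕ)} (h : fusOK pcW F = true)
    {C : PrimeTails.Cert} {cs : List (List ℕ × ℕ × ℕ)}
    (hC : C.rels = cs.map (fun c => .cons c.1 c.2.1 c.2.2) ++
      F.map (fun f => .fus f.2.1 f.2.2.1 f.2.2.2.1 f.2.2.2.2)) :
    C.FusHold (gen pcW) := by
  intro Xs Ys l r hmem
  rw [hC, List.mem_append] at hmem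
  rcases hmem with hmem | hmem
  · obtain ⟨c, -, hc⟩ := List.mem_map.1 hmem
    exact absurd hc (by simp)
  · obtain ⟨f, hf, hc⟩ := List.mem_map.1 hmem
    obtain ⟨rfl, rfl, rfl, rfl⟩ := PrimeTails.Rel.fus.injEq _ _ _ _ _ _ _ _ ▸ hc
    simp only [fusOK, List.all_eq_true, List.mem_range] at h
    refine ⟨el f.1, fun j hj => ?_⟩
    have e := el_eq (h f hf j hj)
    rwa [el_append, el_append, el_pw, el_pw] at e

/-- The separating tuples of points are stable and separate. -/
noncomputable def witOK (pcW : List (List ℕ)) (p n : ℕ) (W : List (List ℕ × List (List ℕ))) : Bool :=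
  (pcW.all okW) && (List.range n).all fun b =>
    let s := (W.getD b ([], [])).1
    let O := (W.getD b ([], [])).2
    O.contains s && (O.all fun x => x.all fun i => Nat.blt i 1782) &&
      ((List.range p).all fun k => Nat.beq k 0 || !O.contains (s.map (img (List.replicate k (pcW.getD b [])).flatten))) &&
        (List.range n).all fun i => Nat.ble i b || O.all fun x => O.contains (x.map (img (pcW.getD i [])))

theorem wit_of_check {pcW : List (List ℕ)} {p n : ℕ} {W : List (List ℕ × List (List ℕ))}
    (h : witOK pcW p n W = true) (b : ℕ) (hb : b < n) (k : ℕ) (hk1 : 1 ≤ k) (hk2 : k < p) :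
    gen pcW b ^ k ∉ Subgroup.closure (gen pcW '' {i | b < i ∧ i < n}) := by
  simp only [witOK, List.all_eq_true, List.mem_range, Bool.and_eq_true, Bool.or_eq_true, Bool.not_eq_true',
    Nat.blt_eq, Nat.ble_eq, List.contains_iff_mem] at h
  obtain ⟨hok0, h⟩ := h
  obtain ⟨⟨⟨hs, hlt⟩, hne⟩, hstab⟩ := h b hb
  generalize (W.getD b ([], [])).1 = s at hs hne
  generalize (W.getD b ([], [])).2 = O at hs hlt hne hstab
  have hok : ∀ i, okW (pcW.getD i []) = true := fun i => by
    rcases lt_or_ge i pcW.length with hi | hi
    · rw [List.getD_eq_getElem _ _ hi]; exact hok0 _ (List.getElem_mem hi)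
    · rw [List.getD_eq_default _ _ hi]; rfl
  let act : G0 → List ℕ → List ℕ := fun x l => l.map fun i =>
    if hi : i < suz1782.n then (rep x ⟨i, hi⟩ : ℕ) else i
  have hn : suz1782.n = 1782 := data_facts.2.2.2.1
  have hact : ∀ {w : List ℕ}, okW w = true → ∀ l ∈ O, act (el w) l = l.map (img w) := fun {w} hw l hl =>
    List.map_congr_left fun i hi => by
      have := hlt l hl i hi
      rw [dif_pos (hn ▸ this)]
      exact el_apply hw _
  intro hmem
  rw [← Subgroup.mem_toSubmonoid, Subgroup.closure_toSubmonoid_of_finite] at hmem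
  have key : ∀ y, y ∈ Submonoid.closure (gen pcW '' {i | b < i ∧ i < n}) → ∀ x ∈ O, act y x ∈ O := by
    intro y hy
    induction hy using Submonoid.closure_induction with
    | mem y hy =>
      obtain ⟨i, ⟨hbi, hi⟩, rfl⟩ := hy
      intro x hx
      rw [gen, hact (hok i) x hx]
      rcases hstab i hi with h | h
      · exact absurd h (by omega)
      · exact h x hx
    | one =>
      intro x hx
      have : act 1 x = x := (List.map_congr_left fun i _ => by
        split <;> simp).trans (List.map_id x)
      rw [this]; exact hx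
    | mul y z _ _ hy hz =>
      intro x hx
      have : act (y * z) x = act y (act z x) := by
        simp only [act, List.map_map]
        refine List.map_congr_left fun i _ => ?_
        simp only [Function.comp]
        split <;> rename_i hi
        · rw [dif_pos (Fin.isLt _)]; simp [map_mul]
        · rfl
      rw [this]; exact hy _ (hz x hx)
  have := key _ hmem s hs
  rw [gen, ← el_replicate] at this
  have hokk : okW (List.replicate k (pcW.getD b [])).flatten = true := by
    have := hok b
    simp only [okW, List.all_eq_true, List.mem_flatten] at this ⊢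
    rintro a ⟨w, hw, ha⟩
    rw [(List.mem_replicate.1 hw).2] at ha
    exact this a ha
  rw [hact hokk s hs] at this
  rcases hne k hk2 with h0 | h0
  · exact absurd (Nat.eq_of_beq_eq_true h0) (by omega)
  · rw [List.contains_iff_mem.2 this] at h0; exact absurd h0 (by decide)

end Cfsg.Agent.MultiplierSuz
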