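/-
Kernel checks for the 3-part and the 5-part of the multiplier of Suz.
-/
import Cfsg.Agent.Lib.MultiplierSuz.DataThree
import Cfsg.Agent.Lib.MultiplierSuz.Model

set_option autoImplicit false
set_option maxRecDepth 100000
set_option Elab.async false

namespace Cfsg.Agent.MultiplierSuz.Three

open Cfsg.Agent.Multiplier

theorem rules_ok : rulesOK pcWord cert.p cert.n cert.rules = true := by decide +kernel
theorem fus_ok : fusOK pcWord fusList = true := by decide +kernel
theorem wit_ok : witOK pcWord cert.p cert.n wit = true := by decide +kernel
theorem shape_ok : cert.shapeOk = true := by decide +kernel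
theorem piv_ok : cert.pivOk = true := by decide +kernel
theorem range_ok : (cert.withKnown known).pivRange = true := by decide +kernel
theorem comb_ok : (cert.withKnown known).combOk = true := by decide +kernel
theorem vec_ok : (cert.rels.map cert.relVec == cert.rv) = true := by decide +kernel
theorem rels_ok : cert.relsOk 0 cert.rels.length = true := by decide +kernel

end Cfsg.Agent.MultiplierSuz.Three

namespace Cfsg.Agent.MultiplierSuz

/-- The twenty-five words of the Sylow 5-subgroup. -/
def fiveWords : List (List ℕ) :=
  (List.range 5).flatMap fun i => (List.range 5).map fun j =>
    (List.replicate i fiveA).flatten ++ (List.replicate j fiveB).flatten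

/-- The relations of the Sylow 5-subgroup and its involution, and the distinctness of its elements. -/
noncomputable def fiveOK : Bool :=
  okW fiveA && (okW fiveB && (okW fiveT &&
    (same (List.replicate 5 fiveA).flatten [] && (same (List.replicate 5 fiveB).flatten [] &&
      (same (fiveT ++ fiveT) [] && (same (fiveA ++ fiveB) (fiveB ++ fiveA) &&
        (same (fiveT ++ fiveA) (fiveA ++ fiveT) && (same (fiveT ++ fiveB ++ fiveT ++ fiveB) [] &&
          decide ((fiveWords.map fun w => roots.map (img w)).Nodup)))))))))

theorem five_ok : fiveOK = true := by decide +kernel

end Cfsg.Agent.MultiplierSuz
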