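/-
Kernel checks for the 2-part of the multiplier of Suz.
-/
import Cfsg.Agent.Lib.MultiplierSuz.DataTwo
import Cfsg.Agent.Lib.MultiplierSuz.Model

set_option autoImplicit false
set_option maxRecDepth 100000
set_option Elab.async false

namespace Cfsg.Agent.MultiplierSuz.Two

open Cfsg.Agent.Multiplier

theorem rules_ok : rulesOK pcWord cert.p cert.n cert.rules = true := by decide +kernel
theorem fus_ok : fusOK pcWord fusList = true := by decide +kernel
theorem wit_ok : witOK pcWord cert.p cert.n wit = true := by decide +kernel
theorem shape_ok : cert.shapeOk = true := by decide +kernel
theorem piv_ok : cert.pivOk = true := by decide +kernel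
theorem range_ok : (cert.withKnown known).pivRange = true := by decide +kernel
theorem comb_ok : (cert.withKnown known).combOk = true := by decide +kernel

end Cfsg.Agent.MultiplierSuz.Two
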