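/-
Kernel checks of the relations on the tails for the 2-part of the multiplier of Suz.
-/
import Cfsg.Agent.Lib.MultiplierSuz.DataTwo

set_option autoImplicit false
set_option maxRecDepth 100000

namespace Cfsg.Agent.MultiplierSuz.Two

open Cfsg.Agent.Multiplier

theorem vec_ok : (cert.rels.map cert.relVec == cert.rv) = true := by decide +kernel
theorem rels_ok : cert.relsOk 0 cert.rels.length = true := by decide +kernel

end Cfsg.Agent.MultiplierSuz.Two
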