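/-
The kernels of stem extensions of Suz are images of a cyclic group of order six.

* `not_stem`: no kernel of prime order in which two given pairs of commuting elements have commuting lifts
* `exists_surj_six`
-/
import Cfsg.Agent.Lib.MultiplierSuz.CheckThree
import Cfsg.Agent.Lib.MultiplierSuz.CheckTwo
import Cfsg.Agent.Lib.MultiplierSuz.CheckTwoRels
import Cfsg.Agent.Lib.Multiplier.PrimeQuotient
import Cfsg.Agent.Lib.Multiplier.OddPart

set_option autoImplicit false
set_option maxRecDepth 100000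

open scoped commutatorElement

namespace Cfsg.Agent.MultiplierSuz

open Cfsg.Agent.Multiplier

attribute [local irreducible] Two.pcWord Three.pcWord tbl fiveA fiveB fiveT

/-- The first element of the pair at two. -/
noncomputable def xTwo : G0 := gen Two.pcWord 1
/-- The second element of the pair at two. -/
noncomputable def yTwo : G0 := gen Two.pcWord 0
/-- The first element of the pair at three. -/
noncomputable def xThree : G0 := gen Three.pcWord 4
/-- The second element of the pair at three. -/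
noncomputable def yThree : G0 := gen Three.pcWord 1

theorem pair_facts : xTwo * yTwo = yTwo * xTwo ∧ xTwo ^ 2 = 1 ∧
    xThree * yThree = yThree * xThree ∧ xThree ^ 3 = 1 := by
  have h2 := rule_of_check Two.rules_ok
  have h3 := rule_of_check Three.rules_ok
  refine ⟨?_, ?_, ?_, ?_⟩
  · have h := h2 1 0 (by decide) (by decide)
    rw [show PrimeTails.lhs Two.cert.p 1 0 = [1, 0] from rfl,
      show PrimeTails.rhs Two.cert.rules 1 0 = [0, 1] from by decide +kernel] at h
    simpa [PcCover.wp_cons, PcCover.wp_nil, xTwo, yTwo] using h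
  · have h := h2 1 1 (by decide) (by decide)
    rw [show PrimeTails.lhs Two.cert.p 1 1 = [1, 1] from rfl,
      show PrimeTails.rhs Two.cert.rules 1 1 = [] from by decide +kernel] at h
    simpa [PcCover.wp_cons, PcCover.wp_nil, xTwo, pow_two] using h
  · have h := h3 4 1 (by decide) (by decide)
    rw [show PrimeTails.lhs Three.cert.p 4 1 = [4, 1] from rfl,
      show PrimeTails.rhs Three.cert.rules 4 1 = [1, 4] from by decide +kernel] at h
    simpa [PcCover.wp_cons, PcCover.wp_nil, xThree, yThree] using h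
  · have h := h3 4 4 (by decide) (by decide)
    rw [show PrimeTails.lhs Three.cert.p 4 4 = [4, 4, 4] from rfl,
      show PrimeTails.rhs Three.cert.rules 4 4 = [] from by decide +kernel] at h
    simpa [PcCover.wp_cons, PcCover.wp_nil, xThree, pow_succ, mul_assoc] using h

theorem not_stem_two {Γ : Type} [Group Γ] [Finite Γ] {σ : Γ →* G0} (hσ : Cfsg.IsStemExtension σ)
    (h : ∀ a b : Γ, σ a = xTwo → σ b = yTwo → a * b = b * a) : Nat.card σ.ker ≠ 2 := by
  have hr := Two.rels_ok
  simp only [PrimeTails.Cert.relsOk, List.take_length, List.drop_zero, List.all_eq_true, Bool.and_eq_true,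
    decide_eq_true_eq] at hr
  exact Two.cert.not_stem_known Two.known Nat.prime_two
    ⟨Two.shape_ok, Two.piv_ok, Two.range_ok, Two.comb_ok, beq_iff_eq.1 Two.vec_ok, hr⟩ (gen Two.pcWord)
    (rule_of_check Two.rules_ok) (fus_of_check Two.fus_ok rfl) (wit_of_check Two.wit_ok)
    (by rw [card_g0]; decide +kernel)
    (fun a ha q hq => by
      simp only [Two.known, List.mem_singleton] at hq
      subst hq
      rw [show PrimeTails.lhs Two.cert.p 1 0 = [1, 0] from rfl,
        show PrimeTails.rhs Two.cert.rules 1 0 = [0, 1] from by decide +kernel]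
      simpa [PcCover.wp_cons, PcCover.wp_nil] using h (a 1) (a 0) (ha 1) (ha 0)) hσ

theorem not_stem_three {Γ : Type} [Group Γ] [Finite Γ] {σ : Γ →* G0} (hσ : Cfsg.IsStemExtension σ)
    (h : ∀ a b : Γ, σ a = xThree → σ b = yThree → a * b = b * a) : Nat.card σ.ker ≠ 3 := by
  have hr := Three.rels_ok
  simp only [PrimeTails.Cert.relsOk, List.take_length, List.drop_zero, List.all_eq_true, Bool.and_eq_true,
    decide_eq_true_eq] at hr
  exact Three.cert.not_stem_known Three.known Nat.prime_three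
    ⟨Three.shape_ok, Three.piv_ok, Three.range_ok, Three.comb_ok, beq_iff_eq.1 Three.vec_ok, hr⟩
    (gen Three.pcWord) (rule_of_check Three.rules_ok) (fus_of_check Three.fus_ok rfl)
    (wit_of_check Three.wit_ok) (by rw [card_g0]; decide +kernel)
    (fun a ha q hq => by
      simp only [Three.known, List.mem_singleton] at hq
      subst hq
      rw [show PrimeTails.lhs Three.cert.p 4 1 = [4, 1] from rfl,
        show PrimeTails.rhs Three.cert.rules 4 1 = [1, 4] from by decide +kernel]
      simpa [PcCover.wp_cons, PcCover.wp_nil] using h (a 4) (a 1) (ha 4) (ha 1)) hσ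

theorem not_stem_five {Γ : Type} [Group Γ] [Finite Γ] {σ : Γ →* G0} (hσ : Cfsg.IsStemExtension σ) :
    Nat.card σ.ker ≠ 5 := by
  have h := five_ok
  simp only [fiveOK, Bool.and_eq_true, decide_eq_true_eq] at h
  obtain ⟨oA, oB, oT, hA, hB, hT, hAB, hTA, hTB, hnd⟩ := h
  have eA : el fiveA ^ 5 = 1 := by rw [← el_replicate]; exact el_eq hA
  have eB : el fiveB ^ 5 = 1 := by rw [← el_replicate]; exact el_eq hB
  have eT : el fiveT * el fiveT = 1 := by rw [← el_append]; exact el_eq hT
  have eAB : Commute (el fiveA) (el fiveB) := by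
    have e := el_eq hAB
    rw [el_append, el_append] at e
    exact e.symm
  have eTi : (el fiveT)⁻¹ = el fiveT := inv_eq_of_mul_eq_one_right eT
  have eTA : el fiveT * el fiveA * (el fiveT)⁻¹ = el fiveA := by
    have e := el_eq hTA
    rw [el_append, el_append] at e
    rw [← e, mul_inv_cancel_right]
  have eTB : el fiveT * el fiveB * (el fiveT)⁻¹ = (el fiveB)⁻¹ := by
    have e := el_eq hTB
    rw [el_append, el_append, el_append, el_nil] at e
    rw [eTi]
    refine (inv_eq_of_mul_eq_one_right ?_).symm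
    rw [← e]; simp only [mul_assoc]
  haveI : Fact (Nat.Prime 5) := ⟨by norm_num⟩
  refine not_stem_abelian hσ (by norm_num) (by norm_num) eAB eTA eTB ?_
  generalize hP : Subgroup.closure ({el fiveA, el fiveB} : Set G0) = P
  have hcomm : ∀ x ∈ ({el fiveA, el fiveB} : Set G0), ∀ y ∈ ({el fiveA, el fiveB} : Set G0), x * y = y * x := by
    rintro x (rfl | rfl) y (rfl | rfl)
    exacts [rfl, eAB, eAB.symm, rfl]
  have hpow : ∀ x ∈ P, x ^ 5 = 1 := by
    intro x hx
    rw [← hP] at hx
    induction hx using Subgroup.closure_induction with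
    | mem y hy => rcases hy with rfl | rfl <;> assumption
    | one => exact one_pow _
    | mul y z hy hz ey ez =>
      have hc : Commute y z := by
        haveI := Subgroup.isMulCommutative_closure hcomm
        have e : y * z = z * y := congrArg Subtype.val (mul_comm' (⟨y, hy⟩ : Subgroup.closure _) ⟨z, hz⟩)
        exact e
      rw [hc.mul_pow, ey, ez, one_mul]
    | inv y _ ey => rw [inv_pow, ey, inv_one]
  have hP5 : IsPGroup 5 P := fun x => ⟨1, Subtype.ext (by
    rw [SubmonoidClass.coe_pow, pow_one, hpow x x.2, OneMemClass.coe_one])⟩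
  have hmem : ∀ w ∈ fiveWords, el w ∈ P ∧ okW w = true := by
    intro w hw
    simp only [fiveWords, List.mem_flatMap, List.mem_map, List.mem_range] at hw
    obtain ⟨i, -, j, -, rfl⟩ := hw
    have hk : ∀ (k : ℕ) {u : List ℕ}, okW u = true → okW (List.replicate k u).flatten = true := by
      intro k u hu
      simp only [okW, List.all_eq_true, List.mem_flatten] at hu ⊢
      rintro a ⟨v, hv, ha⟩
      rw [(List.mem_replicate.1 hv).2] at ha
      exact hu a ha
    refine ⟨?_, by rw [okW_append, hk i oA, hk j oB]; rfl⟩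
    rw [el_append, el_replicate, el_replicate, ← hP]
    exact mul_mem (pow_mem (Subgroup.subset_closure (by simp)) _) (pow_mem (Subgroup.subset_closure (by simp)) _)
  have h25 : 25 ≤ Nat.card P := by
    have hlen : fiveWords.length = 25 := by simp [fiveWords]
    have hinj : Function.Injective fun i : Fin fiveWords.length =>
        (⟨el fiveWords[i.1], (hmem _ (List.getElem_mem i.2)).1⟩ : P) := by
      intro i j e
      refine Fin.ext ((hnd.getElem_inj_iff (i := i.1) (j := j.1) (hi := by simp) (hj := by simp)).mp ?_)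
      simp only [List.getElem_map]
      refine List.map_congr_left fun b hb => ?_
      have hbn : b < CosetEnum.suz1782.n := by
        have := data_facts.2.2.2.2
        simp only [List.all_eq_true, Nat.blt_eq] at this
        exact this b hb
      rw [← el_apply (hmem _ (List.getElem_mem i.2)).2 ⟨b, hbn⟩, ← el_apply (hmem _ (List.getElem_mem j.2)).2 ⟨b, hbn⟩,
        show el fiveWords[i.1] = el fiveWords[j.1] from congrArg Subtype.val e]
    have := Nat.card_le_card_of_injective _ hinj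
    rwa [Nat.card_fin, hlen] at this
  obtain ⟨k, hk⟩ := IsPGroup.iff_card.mp hP5
  intro hd
  have hk2 : 2 ≤ k := by
    by_contra hlt
    have : 5 ^ k ≤ 5 ^ 1 := Nat.pow_le_pow_right (by norm_num) (by omega)
    omega
  have hmul := P.index_mul_card
  rw [card_g0, hk] at hmul
  have h3 : 5 ^ 3 ∣ 448345497600 := by
    rw [← hmul, show 5 ^ 3 = 5 * 5 ^ 2 from rfl]
    exact Nat.mul_dvd_mul hd (Nat.pow_dvd_pow 5 hk2)
  exact absurd h3 (by decide)

/-- No kernel of prime order in which both pairs have commuting lifts. -/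
theorem not_stem {Γ : Type} [Group Γ] [Finite Γ] {σ : Γ →* G0} (hσ : Cfsg.IsStemExtension σ) {p : ℕ}
    (hp : p.Prime) (h2 : ∀ a b : Γ, σ a = xTwo → σ b = yTwo → a * b = b * a)
    (h3 : ∀ a b : Γ, σ a = xThree → σ b = yThree → a * b = b * a) : Nat.card σ.ker ≠ p := by
  by_cases e2 : p = 2
  · subst e2; exact not_stem_two hσ h2
  by_cases e3 : p = 3
  · subst e3; exact not_stem_three hσ h3
  by_cases e5 : p = 5
  · subst e5; exact not_stem_five hσ
  refine not_stem_of_not_sq_dvd hσ hp fun hd => ?_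
  rw [card_g0, show (448345497600 : ℕ) = 2 ^ 13 * (3 ^ 7 * (5 ^ 2 * (7 * (11 * 13)))) by norm_num] at hd
  have hcop : ∀ q k : ℕ, q.Prime → p ≠ q → (p ^ 2).Coprime (q ^ k) := fun q k hq hne =>
    ((Nat.coprime_primes hp hq).2 hne).pow 2 k
  have hd' := (hcop 5 2 (by norm_num) e5).dvd_of_dvd_mul_left
    ((hcop 3 7 Nat.prime_three e3).dvd_of_dvd_mul_left ((hcop 2 13 Nat.prime_two e2).dvd_of_dvd_mul_left hd))
  have hb : p ^ 2 ≤ 1001 := Nat.le_of_dvd (by norm_num) (by simpa using hd')
  have hp32 : p < 32 := by nlinarith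
  interval_cases p <;> first | omega | exact absurd hp (by norm_num) | (revert hd'; norm_num)

theorem commutator_pow_eq_one {Γ : Type} [Group Γ] {A B : Γ} {n : ℕ} (hA : A ^ n ∈ Subgroup.center Γ)
    (hc : ⁅A, B⁆ ∈ Subgroup.center Γ) : ⁅A, B⁆ ^ n = 1 := by
  have hstep : ∀ m : ℕ, A ^ m * B * (A ^ m)⁻¹ = ⁅A, B⁆ ^ m * B := by
    intro m
    induction m with
    | zero => simp
    | succ m ih =>
      calc A ^ (m + 1) * B * (A ^ (m + 1))⁻¹ = A * (A ^ m * B * (A ^ m)⁻¹) * A⁻¹ := by rw [pow_succ']; group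
        _ = (A * ⁅A, B⁆ ^ m) * (B * A⁻¹) := by rw [ih]; group
        _ = (⁅A, B⁆ ^ m * A) * (B * A⁻¹) := by rw [Subgroup.mem_center_iff.1 (pow_mem hc m) A]
        _ = ⁅A, B⁆ ^ (m + 1) * B := by rw [pow_succ, commutatorElement_def]; group
  have h := hstep n
  rw [← Subgroup.mem_center_iff.1 hA B, mul_inv_cancel_right] at h
  exact mul_eq_right.1 h.symm

/-- The kernel of a stem extension is an image of a cyclic group of order six. -/
theorem exists_surj_six {Γ : Type} [Group Γ] [Finite Γ] (σ : Γ →* G0) (hσ : Cfsg.IsStemExtension σ) :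
    ∃ π : Multiplicative (ZMod 6) →* σ.ker, Function.Surjective π := by
  obtain ⟨hc2, hx2, hc3, hx3⟩ := pair_facts
  obtain ⟨A2, hA2⟩ := hσ.1 xTwo
  obtain ⟨B2, hB2⟩ := hσ.1 yTwo
  obtain ⟨A3, hA3⟩ := hσ.1 xThree
  obtain ⟨B3, hB3⟩ := hσ.1 yThree
  have k2 : ⁅A2, B2⁆ ∈ σ.ker := by
    rw [MonoidHom.mem_ker, map_commutatorElement, hA2, hB2, commutatorElement_eq_one_iff_mul_comm, hc2]
  have k3 : ⁅A3, B3⁆ ∈ σ.ker := by
    rw [MonoidHom.mem_ker, map_commutatorElement, hA3, hB3, commutatorElement_eq_one_iff_mul_comm, hc3]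
  have p2 : ⁅A2, B2⁆ ^ 2 = 1 := commutator_pow_eq_one
    (hσ.2.1 (by rw [MonoidHom.mem_ker, map_pow, hA2, hx2])) (hσ.2.1 k2)
  have p3 : ⁅A3, B3⁆ ^ 3 = 1 := commutator_pow_eq_one
    (hσ.2.1 (by rw [MonoidHom.mem_ker, map_pow, hA3, hx3])) (hσ.2.1 k3)
  have hcom : Commute ⁅A2, B2⁆ ⁅A3, B3⁆ := Subgroup.mem_center_iff.1 (hσ.2.1 k3) _
  obtain ⟨c, hcdef⟩ : ∃ c, c = ⁅A2, B2⁆ * ⁅A3, B3⁆ := ⟨_, rfl⟩
  have hck : c ∈ σ.ker := hcdef ▸ mul_mem k2 k3
  have c3 : c ^ 3 = ⁅A2, B2⁆ := by
    rw [hcdef, hcom.mul_pow, p3, mul_one, pow_succ, p2, one_mul]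
  have c4 : c ^ 4 = ⁅A3, B3⁆ := by
    rw [hcdef, hcom.mul_pow, pow_succ ⁅A3, B3⁆, p3, one_mul, show 4 = 2 * 2 from rfl, pow_mul, p2, one_pow, one_mul]
  have c6 : c ^ 6 = 1 := by rw [show 6 = 3 * 2 from rfl, pow_mul, c3, p2]
  have hgen : σ.ker ≤ Subgroup.zpowers c := by
    by_contra hne
    obtain ⟨Δ, i1, i2, τ, π, hτ, hp, hcomp, hπc⟩ := exists_prime_quotient hσ hck hne
    have hlift : ∀ {x y : G0} {A B : Γ}, σ A = x → σ B = y → π ⁅A, B⁆ = 1 →
        ∀ a b : Δ, τ a = x → τ b = y → a * b = b * a := by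
      intro x y A B hA hB h1 a b ha hb
      rw [← commutatorElement_eq_one_iff_mul_comm]
      rw [map_commutatorElement] at h1
      rw [← h1]
      exact commutator_congr hτ.2.1 (by rw [ha, ← hA, ← hcomp]; rfl) (by rw [hb, ← hB, ← hcomp]; rfl)
    exact not_stem hτ hp
      (hlift hA2 hB2 (by rw [← c3, map_pow, hπc, one_pow]))
      (hlift hA3 hB3 (by rw [← c4, map_pow, hπc, one_pow])) rfl
  let e : ℤ →+ Additive σ.ker := zmultiplesHom (Additive σ.ker) (Additive.ofMul ⟨c, hck⟩)
  have he : e ((6 : ℕ) : ℤ) = 0 := by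
    show ((6 : ℕ) : ℤ) • Additive.ofMul (⟨c, hck⟩ : σ.ker) = 0
    rw [natCast_zsmul, ← ofMul_pow, show (⟨c, hck⟩ : σ.ker) ^ 6 = 1 from Subtype.ext c6, ofMul_one]
  refine ⟨AddMonoidHom.toMultiplicativeLeft (ZMod.lift 6 ⟨e, he⟩), fun z => ?_⟩
  obtain ⟨m, hm⟩ := Subgroup.mem_zpowers_iff.mp (hgen z.2)
  refine ⟨Multiplicative.ofAdd (m : ZMod 6), ?_⟩
  show Additive.toMul (ZMod.lift 6 ⟨e, he⟩ (m : ZMod 6)) = z
  rw [ZMod.lift_coe]
  exact Subtype.ext hm

end Cfsg.Agent.MultiplierSuz
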