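/-
Generated data (helper47): seven 12 x 12 matrices over the field of 7 elements, generating 6.Suz.
Their images modulo scalars satisfy the relations of the presented group Suz.
-/
import Cfsg.Agent.EqLemmas

set_option autoImplicit false

namespace Cfsg.Agent.MultiplierSuz

/-- The matrices, by rows. -/
def mats : List (List (List ℕ)) := [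
  [[1, 0, 0, 2, 3, 2, 3, 2, 0, 0, 6, 0],
   [2, 6, 0, 2, 3, 2, 3, 2, 0, 0, 6, 0],
   [2, 0, 3, 2, 1, 4, 2, 2, 6, 1, 2, 1],
   [2, 0, 0, 1, 3, 2, 3, 2, 0, 0, 6, 0],
   [3, 0, 0, 2, 4, 4, 5, 5, 2, 6, 2, 3],
   [2, 0, 0, 2, 5, 2, 3, 2, 0, 0, 3, 0],
   [4, 0, 0, 4, 6, 4, 5, 4, 0, 0, 5, 0],
   [2, 0, 0, 2, 3, 2, 3, 1, 0, 0, 6, 0],
   [5, 0, 5, 3, 4, 5, 2, 2, 0, 1, 6, 2],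
   [5, 0, 2, 2, 1, 2, 5, 4, 2, 0, 6, 6],
   [5, 0, 0, 2, 6, 3, 2, 4, 6, 4, 1, 2],
   [4, 0, 2, 5, 4, 2, 5, 2, 1, 5, 2, 0]],
  [[0, 1, 2, 0, 2, 4, 0, 5, 0, 0, 0, 0],
   [2, 3, 1, 4, 0, 2, 0, 0, 6, 0, 0, 0],
   [0, 0, 3, 2, 0, 0, 4, 0, 0, 0, 0, 5],
   [0, 0, 1, 0, 0, 0, 1, 3, 0, 6, 2, 0],
   [1, 0, 0, 5, 3, 0, 0, 3, 4, 0, 0, 0],
   [4, 1, 0, 0, 0, 3, 5, 0, 5, 0, 0, 1],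
   [0, 0, 4, 2, 0, 0, 3, 0, 0, 0, 0, 5],
   [6, 0, 0, 2, 3, 0, 0, 3, 3, 0, 0, 0],
   [0, 5, 0, 0, 4, 6, 4, 1, 0, 3, 1, 0],
   [4, 0, 0, 4, 2, 0, 0, 0, 2, 3, 6, 5],
   [0, 0, 0, 1, 0, 0, 0, 6, 0, 5, 3, 1],
   [0, 0, 6, 0, 0, 0, 6, 3, 0, 6, 2, 0]],
  [[2, 2, 0, 4, 0, 5, 3, 3, 6, 6, 4, 0],
   [3, 4, 2, 4, 0, 2, 5, 6, 5, 1, 5, 0],
   [5, 4, 0, 3, 0, 3, 1, 3, 2, 1, 2, 6],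
   [5, 4, 4, 6, 0, 3, 5, 4, 2, 6, 5, 2],
   [2, 4, 0, 4, 6, 5, 6, 3, 6, 6, 4, 0],
   [5, 3, 0, 3, 0, 1, 1, 4, 1, 1, 3, 0],
   [3, 1, 1, 1, 0, 5, 1, 4, 1, 6, 5, 0],
   [2, 4, 5, 6, 0, 5, 1, 6, 6, 5, 2, 5],
   [2, 1, 2, 6, 0, 2, 1, 3, 2, 5, 5, 1],
   [2, 4, 1, 3, 0, 5, 5, 1, 6, 2, 5, 1],
   [3, 6, 0, 6, 0, 4, 2, 1, 2, 2, 5, 0],
   [3, 1, 5, 4, 0, 5, 5, 3, 1, 1, 2, 3]],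
  [[1, 1, 1, 6, 2, 4, 6, 4, 4, 3, 2, 1],
   [1, 1, 6, 5, 1, 3, 6, 3, 1, 4, 1, 1],
   [2, 5, 4, 4, 5, 6, 1, 1, 1, 1, 6, 1],
   [5, 4, 4, 4, 2, 6, 5, 3, 1, 3, 1, 6],
   [5, 1, 6, 1, 6, 3, 6, 4, 3, 3, 6, 5],
   [1, 6, 3, 3, 6, 3, 5, 1, 4, 5, 2, 5],
   [2, 2, 4, 1, 2, 6, 6, 4, 2, 4, 1, 1],
   [6, 1, 5, 6, 6, 6, 6, 3, 4, 4, 6, 6],
   [1, 5, 4, 4, 6, 4, 3, 4, 3, 6, 2, 5],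
   [1, 6, 6, 3, 1, 1, 6, 1, 3, 4, 6, 6],
   [4, 5, 3, 4, 2, 1, 1, 4, 1, 4, 1, 2],
   [5, 5, 4, 3, 3, 6, 1, 4, 6, 4, 5, 6]],
  [[1, 3, 1, 6, 3, 4, 3, 1, 0, 0, 4, 1],
   [1, 3, 1, 1, 3, 4, 3, 6, 0, 0, 4, 1],
   [2, 4, 4, 0, 3, 6, 3, 6, 0, 2, 3, 1],
   [1, 2, 4, 0, 4, 6, 1, 0, 0, 0, 4, 2],
   [1, 3, 6, 5, 4, 3, 3, 0, 4, 6, 3, 1],
   [1, 4, 3, 4, 3, 3, 1, 4, 6, 1, 1, 5],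
   [1, 6, 3, 5, 6, 4, 4, 3, 6, 0, 3, 6],
   [4, 6, 4, 0, 4, 6, 1, 0, 0, 0, 4, 2],
   [1, 0, 4, 0, 4, 6, 5, 0, 0, 0, 4, 3],
   [2, 3, 0, 0, 5, 3, 4, 0, 0, 0, 1, 1],
   [6, 1, 3, 1, 6, 4, 3, 5, 5, 1, 3, 1],
   [5, 3, 4, 4, 3, 6, 4, 0, 3, 0, 3, 6]],
  [[2, 0, 0, 3, 4, 5, 2, 1, 0, 0, 1, 0],
   [5, 0, 6, 5, 3, 2, 4, 3, 0, 3, 5, 6],
   [5, 5, 0, 5, 6, 3, 2, 5, 0, 6, 1, 6],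
   [4, 0, 0, 5, 1, 3, 4, 4, 0, 0, 2, 0],
   [4, 4, 1, 2, 6, 5, 4, 2, 0, 1, 5, 4],
   [5, 0, 0, 4, 3, 1, 5, 5, 0, 0, 6, 0],
   [2, 0, 0, 3, 4, 5, 1, 2, 0, 0, 1, 0],
   [1, 0, 0, 3, 4, 5, 2, 2, 0, 0, 1, 0],
   [5, 0, 0, 4, 3, 2, 5, 5, 6, 0, 6, 0],
   [4, 3, 5, 5, 6, 5, 3, 3, 0, 3, 1, 0],
   [2, 5, 3, 5, 1, 4, 2, 3, 0, 3, 2, 5],
   [3, 5, 5, 5, 3, 5, 2, 4, 0, 0, 5, 3]],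
  [[1, 5, 2, 5, 2, 2, 5, 1, 5, 6, 0, 2],
   [4, 5, 0, 6, 4, 2, 0, 3, 0, 6, 0, 1],
   [4, 5, 0, 2, 2, 4, 5, 4, 6, 2, 0, 6],
   [4, 6, 0, 5, 4, 2, 0, 3, 0, 6, 0, 1],
   [1, 3, 0, 3, 2, 4, 0, 6, 0, 5, 0, 2],
   [3, 2, 0, 2, 3, 6, 0, 4, 0, 1, 0, 6],
   [3, 3, 6, 4, 5, 2, 4, 6, 0, 1, 0, 1],
   [3, 5, 3, 2, 5, 4, 1, 1, 2, 2, 0, 1],
   [3, 4, 5, 3, 5, 5, 0, 4, 4, 6, 0, 1],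
   [3, 4, 2, 2, 2, 2, 3, 6, 6, 5, 0, 5],
   [4, 5, 0, 5, 4, 2, 0, 3, 0, 6, 1, 1],
   [6, 5, 6, 5, 5, 2, 1, 4, 1, 6, 0, 5]]]

end Cfsg.Agent.MultiplierSuz
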