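/-
The matrices as units, and their products along words.

* `U`, `F`, `F_word`, `F_eq_of_check`, `mem_center_of_check`
-/
import Cfsg.Agent.Lib.MultiplierSuz.CoverData
import Cfsg.Prelude.Def_Spor_Suz

set_option autoImplicit false
set_option maxRecDepth 100000

namespace Cfsg.Agent.MultiplierSuz

open Cfsg.Spor Matrix

local instance : Fact (Nat.Prime 7) := ⟨by norm_num⟩

/-- The matrix of a list of rows. -/
def toMat (A : List (List ℕ)) : Matrix (Fin 12) (Fin 12) (ZMod 7) :=
  Matrix.of fun i j => (((A.getD i []).getD j 0 : ℕ) : ZMod 7)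

/-- The product modulo seven. -/
def mulL (A B : List (List ℕ)) : List (List ℕ) :=
  (List.range 12).map fun i => (List.range 12).map fun j =>
    ((List.range 12).map fun k => (A.getD i []).getD k 0 * (B.getD k []).getD j 0).sum % 7

/-- A scalar matrix. -/
def scalL (s : ℕ) : List (List ℕ) :=
  (List.range 12).map fun i => (List.range 12).map fun j => if i = j then s else 0

/-- The product of the matrices along a word. -/
def matW (w : List ℕ) : List (List ℕ) := w.foldr (fun a B => mulL (mats.getD a []) B) (scalL 1)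

theorem getD_map_range {α : Type} (f : ℕ → α) (d : α) {i : ℕ} (hi : i < 12) :
    ((List.range 12).map f).getD i d = f i := by
  rw [List.getD_eq_getElem?_getD, List.getElem?_map, List.getElem?_range hi]
  rfl

theorem toMat_mulL (A B : List (List ℕ)) : toMat (mulL A B) = toMat A * toMat B := by
  ext i j
  simp only [toMat, mulL, Matrix.mul_apply, Matrix.of_apply, getD_map_range _ _ i.2, getD_map_range _ _ j.2,
    ZMod.natCast_mod]
  rw [Nat.cast_list_sum, List.map_map,
    Fin.sum_univ_eq_sum_range (fun k => (((A.getD i []).getD k 0 : ℕ) : ZMod 7) * (((B.getD k []).getD j 0 : ℕ) : ZMod 7))]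
  simp [List.range_succ, Finset.sum_range_succ, Function.comp_def, add_assoc]

theorem toMat_scalL (s : ℕ) : toMat (scalL s) = (s : ZMod 7) • 1 := by
  ext i j
  simp only [toMat, scalL, Matrix.of_apply, getD_map_range _ _ i.2, getD_map_range _ _ j.2, Matrix.smul_apply,
    Matrix.one_apply, Fin.ext_iff]
  split_ifs <;> simp

/-- The squares of the matrices. -/
def sqVal (a : ℕ) : ℕ := if a = 3 ∨ a = 4 then 6 else 1

theorem sq_check : ((List.range 7).all fun a =>
    (matW [a, a] == scalL (sqVal a)) && (mulL (scalL (sqVal a)) (scalL (sqVal a)) == scalL 1)) = true := by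
  decide +kernel

theorem mat_sq (a : Fin 7) : toMat (mats.getD a []) * toMat (mats.getD a []) = (sqVal a : ZMod 7) • 1 ∧
    (sqVal a : ZMod 7) * sqVal a = 1 := by
  have h := List.all_eq_true.mp sq_check a (List.mem_range.mpr a.2)
  simp only [Bool.and_eq_true, beq_iff_eq] at h
  refine ⟨?_, by fin_cases a <;> decide⟩
  have h1 := congrArg toMat h.1
  simp only [matW, List.foldr_cons, List.foldr_nil, toMat_mulL, toMat_scalL, Nat.cast_one, one_smul, mul_one] at h1
  exact h1

/-- A matrix as a unit. -/
noncomputable def U (a : Fin 7) : GL (Fin 12) (ZMod 7) where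
  val := toMat (mats.getD a [])
  inv := (sqVal a : ZMod 7) • toMat (mats.getD a [])
  val_inv := by rw [mul_smul_comm, (mat_sq a).1, smul_smul, (mat_sq a).2, one_smul]
  inv_val := by rw [smul_mul_assoc, (mat_sq a).1, smul_smul, (mat_sq a).2, one_smul]

/-- The number of a generator. -/
def num : Suz.Gen → Fin 7
  | .a => 0 | .b => 1 | .c => 2 | .d => 3 | .e => 4 | .f => 5 | .g => 6

/-- The homomorphism of the free group. -/
noncomputable def F : FreeGroup Suz.Gen →* GL (Fin 12) (ZMod 7) := FreeGroup.lift fun x => U (num x)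

/-- The product of the generators in a list. -/
def wd (l : List Suz.Gen) : FreeGroup Suz.Gen := (l.map FreeGroup.of).prod

/-- Their numbers. -/
def nums (l : List Suz.Gen) : List ℕ := l.map fun x => (num x : ℕ)

theorem F_word : ∀ l : List Suz.Gen,
    ((F (wd l) : GL (Fin 12) (ZMod 7)) : Matrix (Fin 12) (Fin 12) (ZMod 7)) = toMat (matW (nums l))
  | [] => by simp [wd, nums, matW, toMat_scalL]
  | x :: l => by
    have ih := F_word l
    simp only [wd, nums, matW] at ih
    simp only [wd, nums, matW, List.map_cons, List.prod_cons, map_mul, Units.val_mul, List.foldr_cons, toMat_mulL,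
      ih]
    rw [F, FreeGroup.lift_apply_of]
    rfl

theorem F_eq_of_check {u v : List Suz.Gen} (h : (matW (nums u) == matW (nums v)) = true) : F (wd u) = F (wd v) :=
  Units.ext (by rw [F_word, F_word, beq_iff_eq.mp h])

theorem val_of_check {u : List Suz.Gen} {s : ℕ} (h : (matW (nums u) == scalL s) = true) :
    ((F (wd u) : GL (Fin 12) (ZMod 7)) : Matrix (Fin 12) (Fin 12) (ZMod 7)) = (s : ZMod 7) • 1 := by
  rw [F_word, beq_iff_eq.mp h, toMat_scalL]

theorem mem_center_of_scal {x : GL (Fin 12) (ZMod 7)} {s : ZMod 7}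
    (h : (x : Matrix (Fin 12) (Fin 12) (ZMod 7)) = s • 1) : x ∈ Subgroup.center (GL (Fin 12) (ZMod 7)) :=
  Subgroup.mem_center_iff.2 fun y => Units.ext (by
    rw [Units.val_mul, Units.val_mul, h, mul_smul_comm, smul_mul_assoc, mul_one, one_mul])

end Cfsg.Agent.MultiplierSuz
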