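/-
A six-fold stem extension of the presented group Suz inside GL(12, 7).

* `exists_cover`
-/
import Cfsg.Agent.S1694
import Cfsg.Agent.Lib.MultiplierSuz.CoverMat
import Cfsg.Prelude.Def_KGroupFacts

set_option autoImplicit false
set_option maxRecDepth 100000

open scoped commutatorElement

namespace Cfsg.Agent.MultiplierSuz

open Cfsg.Spor Matrix

local instance : Fact (Nat.Prime 7) := ⟨by norm_num⟩

/-- The projective linear group. -/
abbrev PG : Type := GL (Fin 12) (ZMod 7) ⧸ Subgroup.center (GL (Fin 12) (ZMod 7))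

/-- The projective homomorphism of the free group. -/
noncomputable def P0 : FreeGroup Suz.Gen →* PG := (QuotientGroup.mk' (Subgroup.center _)).comp F

/-- All words whose values must be scalars, with the values. -/
def scalWords : List (List Suz.Gen × ℕ) :=
  [([.a] ++ (List.replicate 4 [.d, .c]).flatten, 1), ([.a] ++ (List.replicate 2 [.g, .f]).flatten, 1),
    ((List.replicate 5 [.a, .b, .c, .f]).flatten, 6), ((List.replicate 5 [.b, .f, .g]).flatten, 5),
    ((List.replicate 3 ((List.replicate 5 [.b, .c, .d, .c, .d]).flatten ++ [.e])).flatten, 1)]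

theorem scal_check : (scalWords.all fun p => matW (nums p.1) == scalL p.2) = true := by decide +kernel

/-- The value of a Coxeter relator is a scalar. -/
def coxScal (x y : Suz.Gen) : Bool :=
  let A := matW (nums (List.replicate (coxLabel Suz.edges x y) [x, y]).flatten)
  A == scalL 1 || A == scalL 6

/-- All generators. -/
def allGens : List Suz.Gen := [.a, .b, .c, .d, .e, .f, .g]

theorem cox_check : (allGens.all fun x => allGens.all fun y => coxScal x y) = true := by decide +kernel

theorem mem_allGens : ∀ x : Suz.Gen, x ∈ allGens := by intro x; cases x <;> decide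

theorem wd_append (u v : List Suz.Gen) : wd (u ++ v) = wd u * wd v := by
  simp [wd]

theorem wd_replicate (n : ℕ) (w : List Suz.Gen) : wd (List.replicate n w).flatten = wd w ^ n := by
  induction n with
  | zero => simp [wd]
  | succ n ih => rw [List.replicate_succ, List.flatten_cons, wd_append, ih, pow_succ']

theorem wd_one (x : Suz.Gen) : wd [x] = FreeGroup.of x := by simp [wd]

theorem wd_two (x y : Suz.Gen) : wd [x, y] = FreeGroup.of x * FreeGroup.of y := by simp [wd]

theorem P0_eq_one_of_check {u : List Suz.Gen} {s : ℕ} (h : (matW (nums u) == scalL s) = true) :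
    P0 (wd u) = 1 :=
  (QuotientGroup.eq_one_iff _).2 (mem_center_of_scal (val_of_check h))

theorem P0_cox (x y : Suz.Gen) : P0 ((FreeGroup.of x * FreeGroup.of y) ^ coxLabel Suz.edges x y) = 1 := by
  have h := cox_check
  simp only [List.all_eq_true] at h
  have h := h x (mem_allGens x) y (mem_allGens y)
  rw [coxScal, Bool.or_eq_true] at h
  rw [← wd_two, ← wd_replicate]
  rcases h with h | h <;> exact P0_eq_one_of_check h

theorem P0_inv (x : Suz.Gen) : (P0 (FreeGroup.of x))⁻¹ = P0 (FreeGroup.of x) := by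
  have h := P0_cox x x
  rw [show coxLabel Suz.edges x x = 1 from if_pos rfl, pow_one, map_mul] at h
  exact inv_eq_of_mul_eq_one_right h

theorem extra_values {H : Type} [Group H] (P : FreeGroup Suz.Gen →* H)
    (hi : ∀ x, (P (FreeGroup.of x))⁻¹ = P (FreeGroup.of x)) (h : ∀ p ∈ scalWords, P (wd p.1) = 1) :
    ∀ r ∈ Suz.extra, P r = 1 := by
  simp only [scalWords, List.forall_mem_cons, List.not_mem_nil, false_implies, implies_true, and_true,
    wd_append, wd_replicate, wd_one, map_mul, map_pow] at h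
  simp only [wd, List.map_cons, List.map_nil, List.prod_cons, List.prod_nil, mul_one, map_mul, ← mul_assoc] at h
  obtain ⟨h1, h2, h3, h4, h5⟩ := h
  simp only [Suz.extra, List.forall_mem_cons, List.not_mem_nil, false_implies, implies_true, and_true, map_mul,
    map_inv, map_pow]
  refine ⟨?_, ?_, h3, h4, h5⟩
  · rw [← inv_pow, _root_.mul_inv_rev, hi, hi]; exact h1
  · rw [← inv_pow, _root_.mul_inv_rev, hi, hi]; exact h2

theorem P0_rels : ∀ r ∈ coxRelators Suz.edges ∪ {r | r ∈ Suz.extra}, P0 r = 1 := by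
  rintro r (⟨x, -, y, -, rfl⟩ | hr)
  · exact P0_cox x y
  · exact extra_values P0 P0_inv (fun p hp => P0_eq_one_of_check (List.all_eq_true.mp scal_check p hp)) r hr

theorem a_not_scalar : F (FreeGroup.of Suz.Gen.a) ∉ Subgroup.center (GL (Fin 12) (ZMod 7)) := by
  intro h
  have hg : (matW (nums [.a, .b]) == matW (nums [.b, .a])) = false := by decide +kernel
  have hc := congrArg (fun g : GL (Fin 12) (ZMod 7) => (g : Matrix (Fin 12) (Fin 12) (ZMod 7)))
    (Subgroup.mem_center_iff.1 h (F (FreeGroup.of Suz.Gen.b)))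
  simp only [← map_mul, ← wd_two, F_word] at hc
  have hne : (List.range 12).any (fun i => (List.range 12).any fun j =>
      !Nat.beq (((matW (nums [.b, .a])).getD i []).getD j 0 % 7)
        (((matW (nums [.a, .b])).getD i []).getD j 0 % 7)) = true := by decide +kernel
  simp only [List.any_eq_true, List.mem_range, Bool.not_eq_true'] at hne
  obtain ⟨i, hi, j, hj, hij⟩ := hne
  have he := congrFun (congrFun hc ⟨i, hi⟩) ⟨j, hj⟩
  simp only [toMat, Matrix.of_apply] at he
  rw [ZMod.natCast_eq_natCast_iff'] at he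
  rw [he, Nat.beq_refl] at hij
  exact absurd hij (by decide)

theorem F_eq_check :
    (matW (nums [.a, .a]) == scalL 1 && matW (nums [.b, .b]) == scalL 1 && matW (nums [.c, .c]) == scalL 1 &&
      matW (nums [.f, .f]) == scalL 1 && matW (nums [.g, .g]) == scalL 1 && matW (nums [.d, .d, .d, .d]) == scalL 1 &&
      matW (nums [.b, .f, .b, .f, .b, .f]) == scalL 1 && matW (nums [.b, .c, .b, .c, .b, .c]) == scalL 1 &&
      matW (nums [.a, .b, .a, .b, .a, .b, .a, .b, .a, .b]) == scalL 1 &&
      matW (nums [.a, .d, .c, .d, .c, .d, .c, .d, .c]) == scalL 1 &&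
      matW (nums [.b, .g, .b, .g, .b, .g]) == scalL 6 &&
      matW (nums (List.replicate 5 [.a, .b, .c, .f]).flatten) == scalL 6) = true := by decide +kernel

theorem F_eq_of_val {u v : FreeGroup Suz.Gen} {s : ZMod 7}
    (hu : ((F u : GL (Fin 12) (ZMod 7)) : Matrix (Fin 12) (Fin 12) (ZMod 7)) = s • 1)
    (hv : ((F v : GL (Fin 12) (ZMod 7)) : Matrix (Fin 12) (Fin 12) (ZMod 7)) = s • 1) : F u = F v :=
  Units.ext (hu.trans hv.symm)

/-- In an abelian image the generating scalar becomes trivial. -/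
theorem hom_w {A : Type} [CommGroup A] (χ : F.range →* A) :
    χ (F.rangeRestrict (wd (List.replicate 5 [.b, .f, .g]).flatten)) = 1 := by
  have hc := F_eq_check
  simp only [Bool.and_eq_true] at hc
  obtain ⟨⟨⟨⟨⟨⟨⟨⟨⟨⟨⟨sa, sb⟩, sc⟩, sf⟩, sg⟩, sd⟩, bf⟩, bc⟩, ab⟩, adc⟩, bg⟩, abcf⟩ := hc
  let ψ : FreeGroup Suz.Gen →* A := χ.comp F.rangeRestrict
  obtain ⟨u, hu⟩ : ∃ u : Suz.Gen → A, ∀ x, u x = ψ (FreeGroup.of x) := ⟨_, fun _ => rfl⟩
  have hone : ∀ {l : List Suz.Gen}, (matW (nums l) == scalL 1) = true → (l.map u).prod = 1 := fun {l} h => by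
    have e : ψ (wd l) = 1 := (congrArg χ (Subtype.ext (F_eq_of_val (v := 1) (val_of_check h)
      (by rw [map_one, Units.val_one, Nat.cast_one, one_smul])))).trans (map_one ψ)
    rw [← e, wd, map_list_prod, List.map_map]
    exact congrArg List.prod (List.map_congr_left fun x _ => hu x)
  have hwd : ∀ l : List Suz.Gen, ψ (wd l) = (l.map u).prod := fun l => by
    rw [wd, map_list_prod, List.map_map]
    exact congrArg List.prod (List.map_congr_left fun x _ => (hu x).symm)
  have hm : ([Suz.Gen.b, .g, .b, .g, .b, .g].map u).prod =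
      ((List.replicate 5 [Suz.Gen.a, .b, .c, .f]).flatten.map u).prod := by
    rw [← hwd, ← hwd]
    exact congrArg χ (Subtype.ext (F_eq_of_val (val_of_check bg) (val_of_check abcf)))
  replace sa := hone sa
  replace sb := hone sb
  replace sc := hone sc
  replace sf := hone sf
  replace sg := hone sg
  replace sd := hone sd
  replace bf := hone bf
  replace bc := hone bc
  replace ab := hone ab
  replace adc := hone adc
  show ψ _ = 1
  rw [hwd]
  simp only [List.reduceReplicate, List.flatten_cons, List.flatten_nil, List.cons_append, List.nil_append,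
    List.map_cons, List.map_nil, List.prod_cons, List.prod_nil, mul_one] at sa sb sc sf sg sd bf bc ab adc hm ⊢
  generalize u .a = a, u .b = b, u .c = c, u .d = d, u .f = f, u .g = g at *
  have hsq : ∀ {x y : A}, x * x = 1 → y * y = 1 → x * (y * (x * (y * (x * y)))) = x * y := fun {x y} hx hy => by
    calc x * (y * (x * (y * (x * y)))) = (x * x) * (y * y) * (x * y) := by
          simp only [mul_comm, mul_left_comm, mul_assoc]
      _ = x * y := by rw [hx, hy, one_mul, one_mul]
  rw [hsq sb sf] at bf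
  rw [hsq sb sc] at bc
  rw [hsq sb sg] at hm
  have eab : a * b = 1 := by
    calc a * b = ((a * a) * (b * b)) * ((a * a) * (b * b)) * (a * b) := by rw [sa, sb]; simp
      _ = _ := by rw [← ab]; simp only [mul_comm, mul_left_comm, mul_assoc]
  have hb : ∀ {x : A}, b * x = 1 → x = b := fun {x} h => by
    rw [← mul_one x, ← sb, ← mul_assoc, mul_comm x, h, one_mul]
  have ea : a = b := hb (by rw [mul_comm]; exact eab)
  have ec : c = b := hb bc
  have ef : f = b := hb bf
  subst ea ec ef
  have hb1 : f = 1 := by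
    calc f = f * (d * (d * (d * d))) * ((f * f) * (f * f)) := by rw [sd, sb]; simp
      _ = _ := by rw [← adc]; simp only [mul_comm, mul_left_comm, mul_assoc]
  subst hb1
  simp only [one_mul, mul_one] at hm
  simp [hm]

theorem scalar_of_center {x : GL (Fin 12) (ZMod 7)} (h : x ∈ Subgroup.center (GL (Fin 12) (ZMod 7))) :
    ∃ s : ZMod 7, s ≠ 0 ∧ (x : Matrix (Fin 12) (Fin 12) (ZMod 7)) = s • 1 := by
  rw [Matrix.GeneralLinearGroup.center_eq_range_scalar] at h
  obtain ⟨u, rfl⟩ := h
  exact ⟨u, u.ne_zero, by simp [Matrix.GeneralLinearGroup.scalar, Matrix.smul_one_eq_diagonal]⟩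

/-- The six-fold cover. -/
theorem exists_cover : ∃ (Γ : Type) (_ : Group Γ) (_ : Finite Γ) (σ : Γ →* Cfsg.Spor.Suz),
    Cfsg.IsStemExtension σ ∧ Nonempty (σ.ker ≃* Multiplicative (ZMod 6)) := by
  obtain ⟨θ, hθ⟩ : ∃ θ : Cfsg.Spor.Suz →* PG, ∀ r, θ (PresentedGroup.mk _ r) = P0 r := by
    refine ⟨QuotientGroup.lift _ P0 ?_, fun r => rfl⟩
    exact Subgroup.normalClosure_le_normal fun r hr => P0_rels r hr
  have hθinj : Function.Injective θ := by
    rw [← MonoidHom.ker_eq_bot_iff]
    have := Cfsg.Agent.S1694.result.1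
    refine (MonoidHom.normal_ker θ).eq_bot_or_eq_top.resolve_right fun h => a_not_scalar ?_
    exact (QuotientGroup.eq_one_iff _).mp
      ((hθ Suz.a).symm.trans (MonoidHom.mem_ker.mp (h ▸ Subgroup.mem_top _)))
  let q : F.range →* PG := (QuotientGroup.mk' _).comp F.range.subtype
  have hq : ∀ z, q z ∈ θ.range := by
    rintro ⟨_, r, rfl⟩
    exact ⟨_, hθ r⟩
  let σ : F.range →* Cfsg.Spor.Suz := (MonoidHom.ofInjective hθinj).symm.toMonoidHom.comp (q.codRestrict θ.range hq)
  have hσ : ∀ r, σ (F.rangeRestrict r) = PresentedGroup.mk _ r := fun r => by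
    show (MonoidHom.ofInjective hθinj).symm (q.codRestrict θ.range hq (F.rangeRestrict r)) = _
    rw [MulEquiv.symm_apply_eq]
    exact Subtype.ext (hθ r).symm
  have hker : ∀ z, z ∈ σ.ker ↔ (z : GL (Fin 12) (ZMod 7)) ∈ Subgroup.center (GL (Fin 12) (ZMod 7)) := fun z => by
    rw [MonoidHom.mem_ker]
    show (MonoidHom.ofInjective hθinj).symm (q.codRestrict θ.range hq z) = 1 ↔ _
    rw [MulEquiv.map_eq_one_iff, Subtype.ext_iff]
    exact QuotientGroup.eq_one_iff _
  obtain ⟨w, hw⟩ : ∃ w : F.range, w = F.rangeRestrict (wd (List.replicate 5 [.b, .f, .g]).flatten) := ⟨_, rfl⟩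
  have hwval : ((w : GL (Fin 12) (ZMod 7)) : Matrix (Fin 12) (Fin 12) (ZMod 7)) = (5 : ZMod 7) • 1 := by
    have h := scal_check
    simp only [scalWords, List.all_cons, List.all_nil, Bool.and_true, Bool.and_eq_true] at h
    rw [hw]
    exact val_of_check h.2.2.2.1
  have hwpow : ∀ k : ℕ, (((w ^ k : F.range) : GL (Fin 12) (ZMod 7)) : Matrix (Fin 12) (Fin 12) (ZMod 7)) =
      ((5 : ZMod 7) ^ k) • 1 := fun k => by
    rw [SubmonoidClass.coe_pow, Units.val_pow_eq_pow_val, hwval, smul_pow, one_pow]
  have hwker : w ∈ σ.ker := (hker _).mpr (mem_center_of_scal hwval)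
  have hwcomm : w ∈ commutator F.range := by
    have h := hom_w (Abelianization.of : F.range →* Abelianization F.range)
    rw [← hw, ← MonoidHom.mem_ker, Abelianization.ker_of] at h
    exact h
  have hz : σ.ker = Subgroup.zpowers w := by
    refine le_antisymm (fun z hz => ?_) (Subgroup.zpowers_le.2 hwker)
    obtain ⟨s, hs0, hs⟩ := scalar_of_center ((hker _).mp hz)
    have : ∀ s : ZMod 7, s ≠ 0 → ∃ k : Fin 6, s = 5 ^ (k : ℕ) := by decide
    obtain ⟨k, rfl⟩ := this s hs0
    have e : z = w ^ (k : ℕ) := Subtype.ext (Units.ext (hs.trans (hwpow _).symm))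
    exact e ▸ pow_mem (Subgroup.mem_zpowers w) _
  have hord : orderOf w = 6 := by
    refine (orderOf_eq_iff (by norm_num)).2 ⟨Subtype.ext (Units.ext ?_), fun m hm hm0 he => ?_⟩
    · rw [hwpow, show (5 : ZMod 7) ^ 6 = 1 by decide, one_smul]
      rfl
    · have h' := hwpow m
      rw [he] at h'
      have h0 := congrFun (congrFun h' 0) 0
      simp only [OneMemClass.coe_one, Units.val_one, Matrix.one_apply_eq, Matrix.smul_apply, smul_eq_mul,
        mul_one] at h0
      have : ∀ m : Fin 6, m ≠ 0 → (1 : ZMod 7) ≠ 5 ^ (m : ℕ) := by decide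
      exact this ⟨m, hm⟩ (fun h => absurd (congrArg Fin.val h) (by simpa using Nat.pos_iff_ne_zero.1 hm0)) h0
  refine ⟨F.range, inferInstance, inferInstance, σ, ⟨?_, ?_, ?_⟩, ?_⟩
  · intro x
    obtain ⟨r, rfl⟩ := PresentedGroup.mk_surjective _ x
    exact ⟨_, hσ r⟩
  · intro z hz'
    rw [Subgroup.mem_center_iff]
    exact fun y => Subtype.ext (Subgroup.mem_center_iff.mp ((hker z).mp hz') y.1)
  · rw [hz, Subgroup.zpowers_le]
    exact hwcomm
  · rw [hz]
    exact ⟨mulEquivOfCyclicCardEq (by
      rw [Nat.card_zpowers, hord, Nat.card_congr Multiplicative.toAdd, Nat.card_zmod])⟩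

end Cfsg.Agent.MultiplierSuz
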